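import Cfsg.Agent.Chev.Twist.E6Stmts
import Cfsg.Agent.Chev.RootChar
import Cfsg.Agent.Chev.BNpair

/-!
A diagonal automorphism of order three of `²E₆(2)`.
-/

set_option autoImplicit false
set_option maxRecDepth 100000
set_option maxHeartbeats 1000000

namespace Cfsg.Agent.Chev

open Cfsg.Lie

universe u

namespace F4InE6

/-- The exponents of the character. -/
def eN (r : ℕ) : ℕ := (Int.emod (coef chevE6 r 0 + 2 * coef chevE6 r 5) 3).toNat

/-- The weights killing the characters of the torus. -/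
def wN (p : Fin chevE6.rank) : ℕ := ([1, 0, 2, 0, 1, 2] : List ℕ).getD p 0

theorem links_e6 : chkLinks chevE6 e6Cert.T = true := by decide +kernel

theorem eN_chain : ((List.range 72).all fun r =>
    (eN (chevE6.neg r) + eN r) % 3 == 0 &&
    (List.range 72).all fun s => match chevE6.chainRoot r s 1 with
      | some k => (eN r + eN s) % 3 == eN k % 3
      | none => true) = true := by
  decide +kernel

theorem eN_orbit : ∀ (s : Bool) (a : Fin 4), eN (rtNat chevE6 e6_flip_π e6Base s a 0) * 2 ^ e6Len a % 3 =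
      eN (rtNat chevE6 e6_flip_π e6Base s a 0) % 3 ∧
    ∀ j < e6Len a, eN (rtNat chevE6 e6_flip_π e6Base s a j) % 3 =
      eN (rtNat chevE6 e6_flip_π e6Base s a 0) * 2 ^ j % 3 := by
  decide +kernel

theorem nroots_e6 : chevE6.nroots = 72 := by decide +kernel

theorem w_chk : (∀ j : Fin chevE6.rank,
    (∑ p : Fin chevE6.rank, (wN p : ℤ) * chevE6.cartan j (chevE6.simple p)) % 3 = 0) ∧
    (∑ p : Fin chevE6.rank, wN p * eN (chevE6.simple p)) % 3 = 2 := by
  decide +kernel

variable {K : Type u} [Field K] {ω : Kˣ} (hω : ω ^ 3 = 1)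

include hω in
theorem pow_mod3 {a b : ℕ} (h : a % 3 = b % 3) : ω ^ a = ω ^ b := by
  rw [← Nat.mod_add_div a 3, ← Nat.mod_add_div b 3, h]
  simp [pow_add, pow_mul, hω]

include hω in
theorem isRootCharacter : chevE6.IsRootCharacter fun r => ω ^ eN r := by
  have h := eN_chain
  simp only [List.all_eq_true, Bool.and_eq_true, beq_iff_eq, List.mem_range] at h
  refine ⟨fun r hr => eq_inv_of_mul_eq_one_left ?_, fun r s k hr hs hk => ?_⟩
  · rw [← pow_add, pow_mod3 hω (b := 0) (by simpa using (h r (nroots_e6 ▸ hr)).1), pow_zero]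
  · have := (h r (nroots_e6 ▸ hr)).2 s (nroots_e6 ▸ hs)
    rw [hk] at this
    simp only [beq_iff_eq] at this
    rw [← pow_add, pow_mod3 hω this]

/-- The diagonal element. -/
noncomputable def delta (ω : Kˣ) : GL chevE6.Idx K :=
  diagG fun s : Fin chevE6.nroots => ω ^ eN s

include hω in
theorem delta_conj {r : ℕ} (hr : r < chevE6.nroots) (t : K) :
    delta ω * xG facts_chevE6 r t * (delta ω)⁻¹ = xG facts_chevE6 r ((ω ^ eN r : Kˣ) * t) := by
  apply Units.ext
  have h := charDiag_conj e6_checks links_e6 (isRootCharacter hω) hr t (F := K)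
  rw [Units.val_mul, Units.val_mul, xG_val, xG_val]
  refine Eq.trans ?_ h
  congr 1

include hω in
theorem delta_pow_conj (k : ℕ) {r : ℕ} (hr : r < chevE6.nroots) (t : K) :
    delta ω ^ k * xG facts_chevE6 r t * (delta ω ^ k)⁻¹ =
      xG facts_chevE6 r ((ω ^ (k * eN r) : Kˣ) * t) := by
  induction k with
  | zero => simp
  | succ k ih =>
    rw [pow_succ', mul_inv_rev, show delta ω * delta ω ^ k * xG facts_chevE6 r t *
      ((delta ω ^ k)⁻¹ * (delta ω)⁻¹) =
      delta ω * (delta ω ^ k * xG facts_chevE6 r t * (delta ω ^ k)⁻¹) * (delta ω)⁻¹ by group,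
      ih, delta_conj hω hr, ← mul_assoc, ← Units.val_mul, ← pow_add]
    congr 4
    ring

include hω in
theorem delta_pow_three : delta ω ^ 3 = (1 : GL chevE6.Idx K) := by
  rw [pow_three, delta, diagG_mul, diagG_mul]
  apply Units.ext
  show Matrix.diagonal _ = _
  rw [Units.val_one, ← Matrix.diagonal_one]
  congr 1
  funext a
  rcases a with j | s
  · rfl
  · simp only [Sum.elim_inr, Pi.mul_apply, ← pow_add]
    rw [pow_mod3 hω (b := 0) (by omega), pow_zero, Units.val_one]

include hω in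
theorem delta_group (k : ℕ) {g : GL chevE6.Idx K} (hg : g ∈ chevE6.group K) :
    delta ω ^ k * g * (delta ω ^ k)⁻¹ ∈ chevE6.group K := by
  refine ((Subgroup.closure_le _).2 ?_ : chevE6.group K ≤
    (chevE6.group K).comap (MulAut.conj (delta ω ^ k)).toMonoidHom) hg
  rintro x ⟨⟨r, hr⟩, t, e⟩
  have : x = xG facts_chevE6 r t := Units.ext (by rw [e, xG_val, ChevalleyDatum.x, dif_pos hr])
  subst this
  show delta ω ^ k * xG facts_chevE6 r t * (delta ω ^ k)⁻¹ ∈ chevE6.group K
  rw [delta_pow_conj hω k hr]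
  exact xG_mem_group facts_chevE6 r _

variable {φ : K →+* K} {hφ : ∀ t, (φ ^ 2) t = t} (hsq : ∀ t, φ t = t ^ 2)

local notation "TT" => twistE6 K φ hφ

include hsq in
theorem phi_pow (j : ℕ) (t : K) : (φ ^ j) t = t ^ (2 ^ j) := by
  induction j with
  | zero => simp
  | succ j ih => rw [pow_succ', RingHom.mul_def, RingHom.comp_apply, ih, hsq, ← pow_mul, pow_succ]

include hω hsq in
theorem delta_G1 (k : ℕ) {g : GL chevE6.Idx K} (hg : g ∈ (TT).G1) :
    delta ω ^ k * g * (delta ω ^ k)⁻¹ ∈ (TT).G1 := by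
  refine ((Subgroup.closure_le _).2 ?_ : (TT).G1 ≤
    (TT).G1.comap (MulAut.conj (delta ω ^ k)).toMonoidHom) hg
  rintro _ ⟨s, a, t, ht, rfl⟩
  obtain ⟨h0, hj⟩ := eN_orbit s a
  set e := k * eN (rtNat chevE6 e6_flip_π e6Base s a 0) with he
  have hpar : (TT).Par a ((ω ^ e : Kˣ) * t) := by
    show (φ ^ e6Len a) _ = _
    rw [map_mul, show (φ ^ e6Len a) t = t from ht, phi_pow hsq, ← Units.val_pow_eq_pow_val,
      ← pow_mul, pow_mod3 hω (b := e)]
    rw [he, mul_assoc, Nat.mul_mod, h0, ← Nat.mul_mod]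
  show delta ω ^ k * (TT).y s a t * (delta ω ^ k)⁻¹ ∈ (TT).G1
  suffices e' : delta ω ^ k * (TT).y s a t * (delta ω ^ k)⁻¹ = (TT).y s a ((ω ^ e : Kˣ) * t) by
    rw [e']; exact (TT).y_mem_G1 hpar s
  show (MulAut.conj (delta ω ^ k)).toMonoidHom _ = _
  simp only [Twist.y, Twist.yv, map_list_prod, List.map_map]
  refine congrArg List.prod (List.map_congr_left fun j hjm => ?_)
  show delta ω ^ k * xG facts_chevE6 ((TT).rt s a j : ℕ) _ * (delta ω ^ k)⁻¹ = _
  rw [delta_pow_conj hω k ((TT).rt s a j).2]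
  congr 1
  rw [map_mul, show (twistE6 K φ hφ).φ = φ from rfl]
  congr 1
  rw [phi_pow hsq, ← Units.val_pow_eq_pow_val, ← pow_mul]
  congr 1
  refine pow_mod3 hω ?_
  have hjlt : j < e6Len a := List.mem_range.1 hjm
  have hrt : ((TT).rt s a j : ℕ) = rtNat chevE6 e6_flip_π e6Base s a j := by
    cases s <;> rfl
  rw [hrt, he, mul_assoc, Nat.mul_mod, hj j hjlt, ← Nat.mul_mod]

include hω in
/-- No element of the torus acts on the fundamental roots as a power of `delta`. -/
theorem not_inner (h3 : ∀ x : Kˣ, x ^ 3 = 1) (hω1 : ω ≠ 1) {k : ℕ} (hk : k % 3 ≠ 0)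
    (c : Fin chevE6.rank → Kˣ) :
    ¬ ∀ p : Fin chevE6.rank, chiU c (chevE6.simple p) * ω ^ (k * eN (chevE6.simple p)) = 1 := by
  intro h
  obtain ⟨w1, w2⟩ := w_chk
  have hprod : ∏ p : Fin chevE6.rank, chiU c (chevE6.simple p) ^ (wN p) = 1 := by
    simp only [chiU, ← Finset.prod_pow]
    rw [Finset.prod_comm]
    refine Finset.prod_eq_one fun j _ => ?_
    have e : ∀ p : Fin chevE6.rank, (c j ^ chevE6.cartan j (chevE6.simple p)) ^ wN p =
        c j ^ ((wN p : ℤ) * chevE6.cartan j (chevE6.simple p)) := fun p => by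
      rw [← zpow_natCast, ← zpow_mul, mul_comm]
    simp only [e]
    have hs : ∀ S : Finset (Fin chevE6.rank),
        ∏ p ∈ S, c j ^ ((wN p : ℤ) * chevE6.cartan j (chevE6.simple p)) =
          c j ^ ∑ p ∈ S, (wN p : ℤ) * chevE6.cartan j (chevE6.simple p) := fun S => by
      induction S using Finset.induction_on with
      | empty => simp
      | insert a S ha ih => rw [Finset.prod_insert ha, Finset.sum_insert ha, ih, zpow_add]
    rw [hs]
    obtain ⟨d, hd⟩ := Int.dvd_of_emod_eq_zero (w1 j)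
    rw [hd, zpow_mul, show ((3 : ℤ)) = ((3 : ℕ) : ℤ) from rfl, zpow_natCast, h3, one_zpow]
  have hall : ∏ p : Fin chevE6.rank, (chiU c (chevE6.simple p) * ω ^ (k * eN (chevE6.simple p))) ^ wN p = 1 :=
    Finset.prod_eq_one fun p _ => by rw [h p, one_pow]
  simp only [mul_pow, Finset.prod_mul_distrib, hprod, one_mul, ← pow_mul, Finset.prod_pow_eq_pow_sum] at hall
  rw [pow_mod3 hω (b := k * 2)] at hall
  · rw [← orderOf_dvd_iff_pow_eq_one, orderOf_eq_prime (hp := ⟨Nat.prime_three⟩) hω hω1] at hall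
    omega
  · simp only [mul_assoc, ← Finset.mul_sum]
    rw [Nat.mul_mod, show (∑ p : Fin chevE6.rank, eN (chevE6.simple p) * wN p) % 3 = 2 by
      simp only [mul_comm (eN _)]; exact w2, Nat.mul_mod k 2]

end F4InE6

end Cfsg.Agent.Chev
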