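import Cfsg.Agent.Chev.F4InE6.Simple
import Cfsg.Agent.Chev.F4InE6.Delta
import Cfsg.Agent.Chev.GraphF4.Main
import Cfsg.Agent.Chev.UnipotentCount
import Cfsg.Agent.Chev.OrthInvol.Classes
import Mathlib.GroupTheory.Sylow

/-!
Three pairwise non-conjugate subgroups of type `F₄(2)` of `²E₆(2)`.
-/

set_option autoImplicit false
set_option maxRecDepth 100000
set_option maxHeartbeats 1000000

namespace Cfsg.Agent.Chev

open Cfsg.Lie

universe u

/-- An element of p-power order is conjugate into the positive unipotent subgroup. -/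
theorem conj_into_U_pow {D : ChevalleyDatum} {F : Type u} [Field F] [CharP F 2] [Fintype F]
    (hF : Facts.{u} D) {g : GL D.Idx F} (hg : g ∈ D.group F) {m : ℕ} (hm : g ^ 2 ^ m = 1) :
    ∃ e ∈ D.group F, e * g * e⁻¹ ∈ D.posUnipotent F := by
  classical
  set PP : Subgroup (GL D.Idx F) := PJ (D := D) (F := F) Finset.univ with hPP
  haveI : Fact (Nat.Prime 2) := ⟨Nat.prime_two⟩
  have hUle : D.posUnipotent F ≤ PP := le_trans le_sup_left (borel_le_parabolic _)
  have hUp : IsPGroup 2 ((D.posUnipotent F).subgroupOf PP) :=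
    (isPGroup_posUnipotent hF 2).of_equiv (Subgroup.subgroupOfEquivOfLe hUle).symm
  let S := hUp.toSylow (not_dvd_index_posU hF 2 Finset.univ)
  set x : ↥PP := ⟨g, OrthInvol.group_le_PJ hF hg⟩ with hx
  have hx2 : x ^ 2 ^ m = 1 := Subtype.ext hm
  have hxp : IsPGroup 2 (Subgroup.zpowers x) := by
    rintro ⟨y, hy⟩
    obtain ⟨i, rfl⟩ := Subgroup.mem_zpowers_iff.1 hy
    refine ⟨m, Subtype.ext ?_⟩
    show (x ^ i) ^ 2 ^ m = 1
    rw [← zpow_natCast, ← zpow_mul, mul_comm, zpow_mul, zpow_natCast, hx2, one_zpow]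
  obtain ⟨T', hT⟩ := hxp.exists_le_sylow
  obtain ⟨k, hk⟩ := MulAction.exists_smul_eq ↥PP T' S
  have hPG : PP ≤ D.group F := by
    rw [hPP]
    refine sup_le (borel_le_group hF) ((Subgroup.closure_le _).2 ?_)
    rintro y ⟨j, -, hj, e⟩
    have : y = nS hF j := Units.ext (by rw [e]; exact (nG_val hF _ _).symm)
    rw [this]
    exact OrthInvol.nS_mem_group' hF ⟨j, hj⟩
  refine ⟨(k : GL D.Idx F), hPG k.2, ?_⟩
  have : k * x * k⁻¹ ∈ (S : Subgroup ↥PP) := by
    rw [← hk]
    exact ⟨x, hT (Subgroup.mem_zpowers x), by simp [MulAut.conj_apply]⟩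
  rwa [IsPGroup.toSylow_coe, Subgroup.mem_subgroupOf] at this

namespace F4InE6

variable (K : Type u) [Field K] [CharP K 2]

/-- The prime field in `K`. -/
noncomputable def iota : ZMod 2 →+* K := ZMod.castHom (dvd_refl 2) K

/-- The embedding of `F₄(2)`. -/
noncomputable def emb : ↥(chevF4.group (ZMod 2)) →* GL chevE6.Idx K :=
  ((gmap chevE6 (iota K)).comp (GraF.tw (ZMod 2)).G1.subtype).comp (GraF.psi (ZMod 2))

theorem emb_injective : Function.Injective (emb K) :=
  ((gmap_injective (iota K)).comp Subtype.val_injective).comp GraF.psi_injective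

theorem emb_toF4 (w : GraF.pairs (ZMod 2)) :
    emb K (GraF.toF4 (ZMod 2) w) = gmap chevE6 (iota K) (GraF.pfst (ZMod 2) w) := by
  show gmap chevE6 (iota K) ((GraF.psi (ZMod 2) (GraF.toF4 (ZMod 2) w) :
    ↥(GraF.tw (ZMod 2)).G1) : GL chevE6.Idx (ZMod 2)) = _
  rw [GraF.psi_apply]
  rfl

/-- The fundamental roots of `E₆` as fibres. -/
def simples : List ℕ := ((List.range 4).map chevF4.simple).flatMap GraF.fibre

theorem simples_chk : (∀ i : Fin chevE6.rank, simples.count (chevE6.simple i) = 1) ∧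
    (simples.all fun k => Nat.ble (half chevE6) k && Nat.blt k chevE6.nroots) = true := by
  decide +kernel

/-- The regular element. -/
noncomputable def reg : ↥(chevF4.group (ZMod 2)) :=
  GraF.toF4 (ZMod 2) ((List.range 4).map fun a => GraF.pX (chevF4.simple a) 1).prod

theorem pfst_list (l : List ℕ) :
    GraF.pfst (ZMod 2) (l.map fun r => GraF.pX r (1 : ZMod 2)).prod =
      wordG facts_chevE6 ((l.flatMap GraF.fibre).map fun k => (k, (1 : ZMod 2))) := by
  induction l with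
  | nil => simp [wordG]
  | cons r l ih =>
    rw [List.map_cons, List.prod_cons, map_mul, ih, List.flatMap_cons, List.map_append, wordG_append]
    rfl

theorem coef_word (i : Fin chevE6.rank) : ∀ L : List ℕ,
    (L.all fun k => Nat.ble (half chevE6) k && Nat.blt k chevE6.nroots) = true →
    SimpleCoef facts_chevE6 i (wordG facts_chevE6 (L.map fun k => (k, (1 : ZMod 2))))
      (L.count (chevE6.simple i) : ZMod 2)
  | [], _ => by simpa [wordG] using SimpleCoef.one
  | k :: L, h => by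
    rw [List.all_cons, Bool.and_eq_true, Bool.and_eq_true, Nat.ble_eq, Nat.blt_eq] at h
    have ih := coef_word i L h.2
    rw [List.map_cons, wordG_cons]
    by_cases hk : k = chevE6.simple i
    · subst hk
      rw [List.count_cons_self, Nat.cast_add, Nat.cast_one, add_comm]
      exact (SimpleCoef.simple i 1).mul ih
    · rw [List.count_cons_of_ne hk]
      simpa using (SimpleCoef.root (i := i) h.1.2 h.1.1 hk (1 : ZMod 2)).mul ih

theorem reg_coef (i : Fin chevE6.rank) : SimpleCoef facts_chevE6 i (emb K reg) 1 := by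
  have h := SimpleCoef.gmap_coef (hF := facts_chevE6.{u}) (i := i) facts_chevE6 (iota K)
    (coef_word i simples simples_chk.2)
  rw [simples_chk.1 i, Nat.cast_one, map_one] at h
  rw [reg, emb_toF4]
  rw [show (List.range 4).map (fun a => GraF.pX (chevF4.simple a) (1 : ZMod 2)) =
    ((List.range 4).map chevF4.simple).map (fun r => GraF.pX r 1) by rw [List.map_map]; rfl, pfst_list]
  exact h

/-- The image of `U` of `F₄(2)` is defined over the prime field inside `U`. -/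
theorem emb_U {x : ↥(chevF4.group (ZMod 2))} (hx : (x : GL chevF4.Idx (ZMod 2)) ∈ chevF4.posUnipotent (ZMod 2)) :
    ∃ y ∈ chevE6.posUnipotent (ZMod 2), emb K x = gmap chevE6 (iota K) y := by
  set R : Subgroup (GraF.pairs (ZMod 2)) :=
    (chevE6.posUnipotent (ZMod 2)).comap (GraF.pfst (ZMod 2)) with hR
  have hle : chevF4.posUnipotent (ZMod 2) ≤ R.map (GraF.liftF4 (ZMod 2)).θ := by
    refine (Subgroup.closure_le _).2 ?_
    rintro g ⟨r, t, hr, e⟩
    refine ⟨GraF.pX r t, ?_, ((GraF.liftF4 (ZMod 2)).θ_X r t).trans (Units.ext e.symm)⟩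
    show GraF.pfst (ZMod 2) (GraF.pX r t) ∈ chevE6.posUnipotent (ZMod 2)
    refine wordG_mem facts_chevE6 fun p hp => ?_
    obtain ⟨k, hk, rfl⟩ := List.mem_map.1 hp
    obtain ⟨h1, h2⟩ := List.mem_filter.1 hk
    have hk' : k < chevE6.nroots := List.mem_range.1 h1
    exact mem_posUnipotent_of facts_chevE6 hk'
      ((e6Fold_pos ⟨k, hk'⟩).2 ((beq_iff_eq.1 h2).symm ▸ (facts_chevF4.{0}.posRoot_iff r hr.1).1 hr)) _
  obtain ⟨w, hw, e⟩ := hle hx
  refine ⟨_, hw, ?_⟩
  rw [show x = GraF.toF4 (ZMod 2) w from Subtype.ext e.symm, emb_toF4]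

variable {K} [Fintype K] {φ : K →+* K} {hφ : ∀ t, (φ ^ 2) t = t} (hsq : ∀ t, φ t = t ^ 2)

local notation "TT" => twistE6 K φ hφ

include hsq in
omit [Fintype K] in
theorem emb_mem (x : ↥(chevF4.group (ZMod 2))) : emb K x ∈ (TT).G1 := by
  refine (?_ : (GraF.tw (ZMod 2)).G1 ≤ (TT).G1.comap (gmap chevE6 (iota K)))
    (GraF.psi (ZMod 2) x).2
  refine (Subgroup.closure_le _).2 ?_
  rintro _ ⟨s, a, t, -, rfl⟩
  show gmap chevE6 (iota K) ((GraF.tw (ZMod 2)).y s a t) ∈ (TT).G1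
  have hfix : φ (iota K t) = iota K t := by
    rw [hsq, ← map_pow]
    congr 1
    revert t; decide
  have hj : ∀ j, (φ ^ j) (iota K t) = iota K t := fun j => by
    induction j with
    | zero => rfl
    | succ j ih => rw [pow_succ', RingHom.mul_def, RingHom.comp_apply, ih, hfix]
  suffices e : gmap chevE6 (iota K) ((GraF.tw (ZMod 2)).y s a t) = (TT).y s a (iota K t) by
    rw [e]
    exact (TT).y_mem_G1 (hj _) s
  simp only [Twist.y, Twist.yv, map_list_prod, List.map_map]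
  refine congrArg List.prod (List.map_congr_left fun j _ => ?_)
  show gmap chevE6 (iota K) (xG facts_chevE6 _ _) = xG facts_chevE6 _ _
  rw [gmap_xG facts_chevE6 facts_chevE6]
  congr 1
  show iota K (((RingHom.id (ZMod 2)) ^ j) t) = (φ ^ j) (iota K t)
  rw [GraF.id_pow, hj]

include hsq hφ in
/-- Conjugation twisted by the diagonal element preserves no copy. -/
theorem no_conj (h3 : ∀ x : Kˣ, x ^ 3 = 1) {ω : Kˣ} (hω1 : ω ≠ 1) {g : GL chevE6.Idx K}
    (hg : g ∈ chevE6.group K) {k : ℕ} (hk : k % 3 ≠ 0) :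
    ¬ ∀ x : ↥(chevF4.group (ZMod 2)),
      g * delta ω ^ k * emb K x * (g * delta ω ^ k)⁻¹ ∈ (emb K).range := by
  intro h
  have hω : ω ^ 3 = 1 := h3 ω
  have hE := facts_chevE6.{u}
  obtain ⟨x, hx⟩ := h reg
  have hUreg : emb K reg ∈ chevE6.posUnipotent K := (reg_coef K ⟨0, by decide +kernel⟩).mem
  haveI : Fact (Nat.Prime 2) := ⟨Nat.prime_two⟩
  obtain ⟨m, hm⟩ := isPGroup_posUnipotent hE 2 ⟨emb K reg, hUreg⟩
  have hm' : emb K reg ^ 2 ^ m = 1 := congrArg Subtype.val hm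
  have hxm : x ^ 2 ^ m = 1 := emb_injective K (by
    rw [map_pow, hx, conj_pow, hm', mul_one, mul_inv_cancel, map_one])
  obtain ⟨e, he, heU⟩ := conj_into_U_pow facts_chevF4 x.2 (m := m) (congrArg Subtype.val hxm)
  set e' : ↥(chevF4.group (ZMod 2)) := ⟨e, he⟩ with he'
  obtain ⟨y, hy, ey⟩ := emb_U K (x := e' * x * e'⁻¹) heU
  rw [map_mul, map_mul, map_inv, hx] at ey
  set g' := emb K e' * g with hg'
  have hg'G : g' ∈ chevE6.group K :=
    Subgroup.mul_mem _ ((twistE6 K φ hφ).G1_le_group (emb_mem hsq e')) hg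
  have ey' : g' * (delta ω ^ k * emb K reg * (delta ω ^ k)⁻¹) * g'⁻¹ = gmap chevE6 (iota K) y := by
    rw [← ey, hg']; group
  have hscale : ∀ i : Fin chevE6.rank, SimpleCoef hE i (delta ω ^ k * emb K reg * (delta ω ^ k)⁻¹)
      ((ω ^ (k * eN (chevE6.simple i)) : Kˣ) : K) := fun i => by
    have := SimpleCoef.scale (f := fun r => ((ω ^ (k * eN r) : Kˣ) : K))
      (fun r hr v => delta_pow_conj hω k hr v) (reg_coef K i)
    rwa [mul_one] at this
  have hyU : ∀ i : Fin chevE6.rank, ∃ b : ZMod 2,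
      SimpleCoef hE i (gmap chevE6 (iota K) y) (iota K b) := fun i => by
    obtain ⟨b, hb⟩ := SimpleCoef.exists_of_mem (hF := facts_chevE6) i hy
    exact ⟨b, SimpleCoef.gmap_coef (hF := hE) facts_chevE6 (iota K) hb⟩
  have hB : g' ∈ chevE6.borelSubgroup K := by
    refine mem_borel_of_regular hE hg'G (fun i => ⟨_, Units.ne_zero _, hscale i⟩)
      (hscale ⟨0, by decide +kernel⟩).mem ?_
    rw [ey']
    obtain ⟨b, hb⟩ := hyU ⟨0, by decide +kernel⟩
    exact hb.mem
  obtain ⟨v, hv, c, hc⟩ := (mem_borel_iff hE).1 hB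
  refine not_inner hω h3 hω1 hk c fun p => Units.ext ?_
  have h1 := ((hscale p).scale (d := torusHom c) (f := fun r => (chiU c r : K))
    (fun r hr w => by rw [torusHom_conj hE c hr, mul_inv_cancel_right])).conjU hv
  obtain ⟨b, hb⟩ := hyU p
  rw [← ey', hc, show v * torusHom c * (delta ω ^ k * emb K reg * (delta ω ^ k)⁻¹) *
    (v * torusHom c)⁻¹ = v * (torusHom c * (delta ω ^ k * emb K reg * (delta ω ^ k)⁻¹) *
      (torusHom c)⁻¹) * v⁻¹ by group] at hb
  have e1 := h1.unique hb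
  rw [Units.val_mul, Units.val_one, e1]
  have hb1 : b = 1 := by
    have hne : iota K b ≠ 0 := e1 ▸ mul_ne_zero (Units.ne_zero _) (Units.ne_zero _)
    revert hne
    revert b
    intro b _ _
    fin_cases b
    · intro hne; exact absurd (map_zero _) hne
    · intro _; rfl
  rw [hb1, map_one]

include hsq in
/-- The three subgroups. -/
theorem exists_three (h3 : ∀ x : Kˣ, x ^ 3 = 1) {ω : Kˣ} (hω1 : ω ≠ 1) :
    ∃ H : Fin 3 → Subgroup ↥(TT).G1,
      (∀ i, Nonempty (↥(H i) ≃* ↥(chevF4.group (ZMod 2)))) ∧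
      ∀ i j, i ≠ j → ∀ g : ↥(TT).G1, (H i).map (MulAut.conj g).toMonoidHom ≠ H j := by
  have hω : ω ^ 3 = 1 := h3 ω
  let f : Fin 3 → (↥(chevF4.group (ZMod 2)) →* ↥(TT).G1) := fun i =>
    ((MulAut.conj (delta ω ^ (i : ℕ))).toMonoidHom.comp (emb K)).codRestrict _ fun x =>
      delta_G1 hω hsq i (emb_mem hsq x)
  have hinj : ∀ i, Function.Injective (f i) := fun i a b e =>
    emb_injective K ((MulAut.conj (delta ω ^ (i : ℕ))).injective (congrArg Subtype.val e))
  refine ⟨fun i => (f i).range, fun i => ⟨(MonoidHom.ofInjective (hinj i)).symm⟩, fun i j hij g e => ?_⟩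
  set δ : GL chevE6.Idx K := delta ω with hδ
  have h3δ : δ ^ 3 = 1 := delta_pow_three hω
  have hinv : (δ ^ (j : ℕ))⁻¹ = δ ^ (2 * (j : ℕ)) := by
    refine inv_eq_of_mul_eq_one_right ?_
    rw [← pow_add, show (j : ℕ) + 2 * j = 3 * j by ring, pow_mul, h3δ, one_pow]
  have hk : ((i : ℕ) + 2 * j) % 3 ≠ 0 := by
    have := i.2; have := j.2
    have : (i : ℕ) ≠ j := fun e => hij (Fin.ext e)
    omega
  refine no_conj (φ := φ) (hφ := hφ) hsq h3 hω1
    (g := δ ^ (2 * (j : ℕ)) * (g : GL chevE6.Idx K) * (δ ^ (2 * (j : ℕ)))⁻¹) ?_ hk fun x => ?_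
  · exact delta_group hω _ ((TT).G1_le_group g.2)
  · have hmem : g * f i x * g⁻¹ ∈ (f j).range := by
      show _ ∈ (fun i => (f i).range) j
      rw [← e]
      exact ⟨f i x, ⟨x, rfl⟩, rfl⟩
    obtain ⟨y, hy⟩ := hmem
    have hy' := congrArg Subtype.val hy
    simp only [Subgroup.coe_mul, Subgroup.coe_inv] at hy'
    change δ ^ (j : ℕ) * emb K y * (δ ^ (j : ℕ))⁻¹ =
      (g : GL chevE6.Idx K) * (δ ^ (i : ℕ) * emb K x * (δ ^ (i : ℕ))⁻¹) * (g : GL chevE6.Idx K)⁻¹ at hy'
    refine ⟨y, ?_⟩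
    have hy2 : emb K y = (δ ^ (j : ℕ))⁻¹ * ((g : GL chevE6.Idx K) * (δ ^ (i : ℕ) * emb K x *
        (δ ^ (i : ℕ))⁻¹) * (g : GL chevE6.Idx K)⁻¹) * δ ^ (j : ℕ) := by
      rw [← hy']; group
    rw [hy2, pow_add, hinv, ← hδ, show δ ^ (j : ℕ) = (δ ^ (2 * (j : ℕ)))⁻¹ by rw [← hinv, inv_inv]]
    group

end F4InE6

end Cfsg.Agent.Chev
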