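import Cfsg.Agent.Chev.Functorial

/-!
The coefficient of a fundamental root on the positive unipotent subgroup.
-/

set_option autoImplicit false

namespace Cfsg.Agent.Chev

open Cfsg.Lie

universe u v

variable {D : ChevalleyDatum} {F : Type u} [Field F] (hF : Facts.{u} D)

/-- The element `g` of `U` has coefficient `t` at the `i`-th fundamental root. -/
def SimpleCoef (i : Fin D.rank) (g : GL D.Idx F) (t : F) : Prop :=
  ∃ y ∈ Subgroup.closure (otherRoots hF (i : ℕ)), g = y * xG hF (D.simple i) t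

theorem wPerm_pos_of_other (i : Fin D.rank) {r : Fin D.nroots} (hr : half D ≤ (r : ℕ))
    (hne : (r : ℕ) ≠ D.simple i) : half D ≤ (wPerm hF i r : ℕ) := by
  rw [wPerm_val]
  exact hF.refl_pos i i.2 r r.2 hr hne

theorem wPerm_simple_neg (i : Fin D.rank) : (wPerm hF i (sRoot hF i) : ℕ) < half D := by
  rw [wPerm_val]
  show D.reflectRoot i (D.simple i) < half D
  rw [hF.refl_simple i i.2]
  exact (neg_lt_half_iff hF (hF.simple_lt i i.2)).2 (hF.simple_pos i i.2)

namespace SimpleCoef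

variable {hF} {i : Fin D.rank} {g g' : GL D.Idx F} {t t' : F}

theorem mem (h : SimpleCoef hF i g t) : g ∈ D.posUnipotent F := by
  obtain ⟨y, hy, rfl⟩ := h
  exact Subgroup.mul_mem _ (otherRoots_le hF _ hy)
    (mem_posUnipotent_of hF (hF.simple_lt i i.2) (hF.simple_pos i i.2) t)

theorem unique (h : SimpleCoef hF i g t) (h' : SimpleCoef hF i g t') : t = t' := by
  obtain ⟨y, hy, rfl⟩ := h
  obtain ⟨y', hy', e⟩ := h'
  have e' : y'⁻¹ * y = xG hF (D.simple i) (t' + -t) := by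
    rw [← xG_mul, ← xG_inv]
    rw [eq_mul_inv_iff_mul_eq, mul_assoc, e, inv_mul_cancel_left]
  have hplus : y'⁻¹ * y ∈ uPlus hF (wPerm hF i) := by
    refine (?_ : Subgroup.closure (otherRoots hF (i : ℕ) (F := F)) ≤ uPlus hF (wPerm hF i))
      (Subgroup.mul_mem _ (Subgroup.inv_mem _ hy') hy)
    refine (Subgroup.closure_le _).2 ?_
    rintro _ ⟨s, v, h1, h2, h3, rfl⟩
    exact Subgroup.subset_closure ⟨⟨s, h1⟩, v, h2, wPerm_pos_of_other hF i (r := ⟨s, h1⟩) h2 h3, rfl⟩
  have hminus : y'⁻¹ * y ∈ uMinus hF (wPerm hF i) := e' ▸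
    Subgroup.subset_closure ⟨sRoot hF i, _, hF.simple_pos i i.2, wPerm_simple_neg hF i, rfl⟩
  have h1 := uPlus_inf_uMinus hF (isMon_nS hF i (F := F)) hplus hminus
  rw [h1] at e'
  have := (xG_eq_one_iff hF (hF.simple_lt i i.2)).1 e'.symm
  exact (eq_of_sub_eq_zero (by rw [sub_eq_add_neg]; exact this)).symm

theorem of_other (h : g ∈ Subgroup.closure (otherRoots hF (i : ℕ))) : SimpleCoef hF i g 0 :=
  ⟨g, h, by rw [xG_zero, mul_one]⟩

theorem simple (i : Fin D.rank) (t : F) : SimpleCoef hF i (xG hF (D.simple i) t) t :=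
  ⟨1, Subgroup.one_mem _, by rw [one_mul]⟩

theorem root {s : ℕ} (hs : s < D.nroots) (hp : half D ≤ s) (hne : s ≠ D.simple i) (t : F) :
    SimpleCoef hF i (xG hF s t) 0 :=
  of_other (Subgroup.subset_closure ⟨s, t, hs, hp, hne, rfl⟩)

theorem one : SimpleCoef hF i (1 : GL D.Idx F) 0 := of_other (Subgroup.one_mem _)

theorem mul (h : SimpleCoef hF i g t) (h' : SimpleCoef hF i g' t') :
    SimpleCoef hF i (g * g') (t + t') := by
  obtain ⟨y, hy, rfl⟩ := h
  obtain ⟨y', hy', rfl⟩ := h'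
  refine ⟨y * (xG hF (D.simple i) t * y' * (xG hF (D.simple i) t)⁻¹), Subgroup.mul_mem _ hy
    ((Subgroup.mem_normalizer_iff.1 (simple_mem_normalizer hF i.2 t).1 y').1 hy'), ?_⟩
  rw [← xG_mul]
  group

theorem exists_of_mem (i : Fin D.rank) (h : g ∈ D.posUnipotent F) : ∃ t, SimpleCoef hF i g t := by
  obtain ⟨y, hy, t, e⟩ := exists_split_simple hF i.2 h
  exact ⟨t, y, hy, e⟩

theorem conjU {v : GL D.Idx F} (hv : v ∈ D.posUnipotent F) (h : SimpleCoef hF i g t) :
    SimpleCoef hF i (v * g * v⁻¹) t := by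
  obtain ⟨a, ha⟩ := exists_of_mem (hF := hF) i hv
  obtain ⟨b, hb⟩ := exists_of_mem (hF := hF) i (Subgroup.inv_mem _ hv)
  have h0 : a + b = 0 := unique (ha.mul hb) (by rw [mul_inv_cancel]; exact one)
  have := (ha.mul h).mul hb
  rwa [show a + t + b = (a + b) + t by ring, h0, zero_add] at this

/-- Conjugation by an element scaling every root element. -/
theorem scale {d : GL D.Idx F} {f : ℕ → F}
    (hd : ∀ r, r < D.nroots → ∀ v : F, d * xG hF r v * d⁻¹ = xG hF r (f r * v))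
    (h : SimpleCoef hF i g t) : SimpleCoef hF i (d * g * d⁻¹) (f (D.simple i) * t) := by
  obtain ⟨y, hy, rfl⟩ := h
  refine ⟨d * y * d⁻¹, ?_, ?_⟩
  · refine (?_ : Subgroup.closure (otherRoots hF (i : ℕ) (F := F)) ≤
      (Subgroup.closure (otherRoots hF (i : ℕ))).comap (MulAut.conj d).toMonoidHom) hy
    refine (Subgroup.closure_le _).2 ?_
    rintro _ ⟨s, v, h1, h2, h3, rfl⟩
    show d * xG hF s v * d⁻¹ ∈ Subgroup.closure (otherRoots hF (i : ℕ))
    rw [hd s h1]
    exact Subgroup.subset_closure ⟨s, _, h1, h2, h3, rfl⟩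
  · rw [← hd _ (hF.simple_lt i i.2)]
    group

theorem gmap_coef {E : Type v} [Field E] (hE : Facts.{v} D) (f : E →+* F) {g : GL D.Idx E} {t : E}
    (h : SimpleCoef hE i g t) : SimpleCoef hF i (gmap D f g) (f t) := by
  obtain ⟨y, hy, rfl⟩ := h
  refine ⟨gmap D f y, ?_, by rw [map_mul, gmap_xG hE hF]⟩
  refine (?_ : Subgroup.closure (otherRoots hE (i : ℕ) (F := E)) ≤
    (Subgroup.closure (otherRoots hF (i : ℕ))).comap (gmap D f)) hy
  refine (Subgroup.closure_le _).2 ?_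
  rintro _ ⟨s, v, h1, h2, h3, rfl⟩
  show gmap D f (xG hE s v) ∈ Subgroup.closure (otherRoots hF (i : ℕ))
  rw [gmap_xG hE hF]
  exact Subgroup.subset_closure ⟨s, f v, h1, h2, h3, rfl⟩

end SimpleCoef

/-- An element of the group carrying one element of `U` with all fundamental coefficients nonzero
into `U` lies in the Borel subgroup. -/
theorem mem_borel_of_regular {g u : GL D.Idx F} (hg : g ∈ D.group F)
    (hu : ∀ i : Fin D.rank, ∃ t, t ≠ 0 ∧ SimpleCoef hF i u t) (huU : u ∈ D.posUnipotent F)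
    (hgu : g * u * g⁻¹ ∈ D.posUnipotent F) : g ∈ D.borelSubgroup F := by
  obtain ⟨b, hb, w, x, hx, rfl⟩ := exists_normalForm hF hg
  set n := nWord hF w (F := F) with hn
  set π := pWord hF w with hπ
  have hmon : IsMon hF n π := isMon_nWord hF w
  have hxU : x ∈ D.posUnipotent F := closure_uGens_le hF _ hx
  have hu2 : x * u * x⁻¹ ∈ D.posUnipotent F :=
    Subgroup.mul_mem _ (Subgroup.mul_mem _ hxU huU) (Subgroup.inv_mem _ hxU)
  have hn2 : n * (x * u * x⁻¹) * n⁻¹ ∈ D.posUnipotent F := by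
    obtain ⟨v, hv, c, rfl⟩ := (mem_borel_iff hF).1 hb
    have h0 : v * torusHom c * n * x * u * (v * torusHom c * n * x)⁻¹ =
        v * (torusHom c * (n * (x * u * x⁻¹) * n⁻¹) * (torusHom c)⁻¹) * v⁻¹ := by group
    rw [h0] at hgu
    have h1 := Subgroup.mul_mem _ (Subgroup.mul_mem _ (Subgroup.inv_mem _ hv) hgu) hv
    rw [show v⁻¹ * (v * (torusHom c * (n * (x * u * x⁻¹) * n⁻¹) * (torusHom c)⁻¹) * v⁻¹) * v =
      torusHom c * (n * (x * u * x⁻¹) * n⁻¹) * (torusHom c)⁻¹ by group] at h1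
    exact ((Subgroup.mem_normalizer_iff.1 (torusHom_mem_normalizer hF c) _).2 h1)
  obtain ⟨a, ha, m, hm, e⟩ := posUnipotent_split hF π hu2
  have hm1 : m = 1 := by
    have hV := conj_uMinus hF hmon hm
    have hU : n * m * n⁻¹ ∈ D.posUnipotent F := by
      rw [show n * m * n⁻¹ = (n * a * n⁻¹)⁻¹ * (n * (a * m) * n⁻¹) by group, ← e]
      exact Subgroup.mul_mem _ (Subgroup.inv_mem _ (conj_uPlus hF hmon ha)) hn2
    exact conj_eq_one_iff.1 (borel_inf_upper hF (Subgroup.mem_sup_left hU)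
      (negUnipotent_le_upperGroup hF hV))
  rw [hm1, mul_one] at e
  have hπ1 : π = 1 := by
    refine eq_one_of_pos hF (pWord_mem hF w) fun i => ?_
    by_contra hneg
    obtain ⟨t, ht, hc⟩ := hu i
    refine ht (SimpleCoef.unique (hc.conjU hxU) (SimpleCoef.of_other ?_))
    rw [e]
    refine (?_ : uPlus hF π (F := F) ≤ Subgroup.closure (otherRoots hF (i : ℕ))) ha
    refine (Subgroup.closure_le _).2 ?_
    rintro _ ⟨r, v, h1, h2, rfl⟩
    refine Subgroup.subset_closure ⟨r, v, r.2, h1, fun e' => hneg ?_, rfl⟩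
    rwa [show r = sRoot hF i from Fin.ext e'] at h2
  have hx1 : x = 1 := by
    have h' : x ∈ uMinus hF π := hx
    rw [hπ1] at h'
    have hle : uMinus hF 1 (F := F) ≤ ⊥ := by
      refine (Subgroup.closure_le _).2 ?_
      rintro _ ⟨r, v, h1, h2, rfl⟩
      exact absurd h1 (not_le.2 h2)
    exact Subgroup.mem_bot.1 (hle h')
  rw [hx1, mul_one]
  exact Subgroup.mul_mem _ hb (Subgroup.mem_sup_right (nWord_mem_diagonal hF w hπ1))

end Cfsg.Agent.Chev
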